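import Mathlib

/-!
The second exterior power of the natural module of `SL(5, 2)`, in coordinates, and the set of its
decomposable elements.
-/

set_option autoImplicit false

namespace H74.J4A10

/-- The natural module. -/
abbrev F5 : Type := Fin 5 → ZMod 2

/-- Its second exterior power. -/
abbrev V10 : Type := Fin 10 → ZMod 2

/-- First index of a pair. -/
def pa : Fin 10 → Fin 5 := ![0, 0, 0, 0, 1, 1, 1, 2, 2, 3]

/-- Second index of a pair. -/
def pb : Fin 10 → Fin 5 := ![1, 2, 3, 4, 2, 3, 4, 3, 4, 4]

/-- The wedge product. -/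
def wB : F5 →ₗ[ZMod 2] F5 →ₗ[ZMod 2] V10 :=
  LinearMap.mk₂ (ZMod 2) (fun u v k => u (pa k) * v (pb k) + u (pb k) * v (pa k))
    (fun u u' v => funext fun k => by simp only [Pi.add_apply]; ring)
    (fun c u v => funext fun k => by simp only [Pi.smul_apply, smul_eq_mul]; ring)
    (fun u v v' => funext fun k => by simp only [Pi.add_apply]; ring)
    (fun c u v => funext fun k => by simp only [Pi.smul_apply, smul_eq_mul]; ring)

theorem wB_apply (u v : F5) (k : Fin 10) : wB u v k = u (pa k) * v (pb k) + u (pb k) * v (pa k) :=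
  rfl

theorem wB_comm (u v : F5) : wB u v = wB v u := funext fun k => by
  rw [wB_apply, wB_apply]; ring

/-- The induced map. -/
noncomputable def ext2 (f : F5 →ₗ[ZMod 2] F5) : V10 →ₗ[ZMod 2] V10 :=
  (Pi.basisFun (ZMod 2) (Fin 10)).constr (ZMod 2) fun k =>
    wB (f (Pi.single (pa k) 1)) (f (Pi.single (pb k) 1))

theorem ext2_single (f : F5 →ₗ[ZMod 2] F5) (k : Fin 10) :
    ext2 f (Pi.single k 1) = wB (f (Pi.single (pa k) 1)) (f (Pi.single (pb k) 1)) := by
  rw [← Pi.basisFun_apply (ZMod 2), ext2, Module.Basis.constr_basis]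

theorem wB_self (u : F5) : wB u u = 0 := funext fun k => by
  rw [wB_apply, mul_comm]; exact CharTwo.add_self_eq_zero _

theorem wB_pair (k : Fin 10) :
    wB (Pi.single (pa k) 1) (Pi.single (pb k) 1) = Pi.single k 1 := by
  revert k; decide +kernel

theorem pair_surj : ∀ i j : Fin 5, i = j ∨ ∃ k, (pa k = i ∧ pb k = j) ∨ (pa k = j ∧ pb k = i) := by
  decide +kernel

theorem ext2_wB (f : F5 →ₗ[ZMod 2] F5) (u v : F5) : ext2 f (wB u v) = wB (f u) (f v) := by
  have e : (wB.compr₂ (ext2 f)) = wB.compl₁₂ f f := by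
    refine LinearMap.ext_basis (Pi.basisFun (ZMod 2) (Fin 5)) (Pi.basisFun (ZMod 2) (Fin 5))
      fun i j => ?_
    simp only [LinearMap.compr₂_apply, LinearMap.compl₁₂_apply, Pi.basisFun_apply]
    rcases pair_surj i j with rfl | ⟨k, ⟨rfl, rfl⟩ | ⟨rfl, rfl⟩⟩
    · rw [wB_self, wB_self, map_zero]
    · rw [wB_pair, ext2_single]
    · rw [wB_comm, wB_pair, ext2_single, wB_comm]
  exact LinearMap.congr_fun (LinearMap.congr_fun e u) v

theorem ext2_comp (f g : F5 →ₗ[ZMod 2] F5) : ext2 (f ∘ₗ g) = ext2 f ∘ₗ ext2 g :=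
  (Pi.basisFun (ZMod 2) (Fin 10)).ext fun k => by
    rw [Pi.basisFun_apply, LinearMap.comp_apply, ext2_single, ext2_single, ext2_wB]
    rfl

theorem ext2_id : ext2 LinearMap.id = LinearMap.id :=
  (Pi.basisFun (ZMod 2) (Fin 10)).ext fun k => by
    rw [Pi.basisFun_apply, ext2_single]
    exact wB_pair k

/-- A vector of the natural module from its bits. -/
def dec5 (n : ℕ) : F5 := fun i => if n.testBit i then 1 else 0

/-- A vector from its bits. -/
def dec (n : ℕ) : V10 := fun i => if n.testBit i then 1 else 0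

/-- The bits of a vector. -/
def enc (x : V10) : ℕ :=
  (List.finRange 10).foldl (fun s i => s + (x i).val * 2 ^ i.val) 0

theorem dec_xor (a b : ℕ) : dec (a ^^^ b) = dec a + dec b := funext fun i => by
  show (if (a ^^^ b).testBit i.val then (1 : ZMod 2) else 0) = _ + _
  rw [Nat.testBit_xor]
  simp only [dec]
  cases a.testBit i.val <;> cases b.testBit i.val <;> decide

theorem enc_dec : ∀ n < 1024, enc (dec n) = n := by decide +kernel

theorem dec_bij : Function.Bijective fun n : Fin 1024 => dec n.val := by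
  rw [Fintype.bijective_iff_injective_and_card]
  refine ⟨fun a b h => ?_, by simp⟩
  have := congrArg enc h
  simp only [enc_dec _ a.2, enc_dec _ b.2] at this
  exact Fin.ext this

theorem exists_dec (x : V10) : ∃ n < 1024, dec n = x := by
  obtain ⟨n, rfl⟩ := dec_bij.surjective x
  exact ⟨n, n.2, rfl⟩

theorem dec_enc (x : V10) : dec (enc x) = x := by
  obtain ⟨n, hn, rfl⟩ := exists_dec x
  rw [enc_dec n hn]

theorem enc_lt (x : V10) : enc x < 1024 := by
  obtain ⟨n, hn, rfl⟩ := exists_dec x
  rwa [enc_dec n hn]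

theorem enc_add (x y : V10) : enc (x + y) = enc x ^^^ enc y := by
  rw [← enc_dec (enc x ^^^ enc y) (Nat.xor_lt_two_pow (n := 10) (enc_lt x) (enc_lt y)), dec_xor,
    dec_enc, dec_enc]

theorem dec5_surj (u : F5) : ∃ n < 32, dec5 n = u := by
  have h : Function.Bijective fun n : Fin 32 => dec5 n.val := by
    rw [Fintype.bijective_iff_injective_and_card]
    exact ⟨by decide +kernel, by simp⟩
  obtain ⟨n, rfl⟩ := h.surjective u
  exact ⟨n, n.2, rfl⟩

/-- The decomposable elements, as a mask. -/
def decMask : ℕ := 262567432926466872196637648448325973058480168976889728683345837105383836524705515179516799038768043768440813472996187173832642213696448780787785903180800242798601906354329156314518561568052686201782514843795739000520192293208280631956201386131852559644003929679336521238322448257047841762304644736876542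

/-- The test for a decomposable element. -/
def decB (n : ℕ) : Bool := Nat.beq (Nat.land (Nat.shiftRight decMask n) 1) 1

/-- A decomposable element. -/
def IsDec (x : V10) : Prop := decB (enc x) = true

/-- The wedge on bits. -/
def wN (u v : ℕ) : ℕ :=
  (List.finRange 10).foldl (fun s k => s + Nat.shiftLeft
    (((if u.testBit (pa k).val && v.testBit (pb k).val then 1 else 0) +
      (if u.testBit (pb k).val && v.testBit (pa k).val then 1 else 0)) % 2) k.val) 0

theorem wN_eq : ∀ u < 32, ∀ v < 32, enc (wB (dec5 u) (dec5 v)) = wN u v := by decide +kernel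

theorem dec_wit : ((List.range 1024).all fun n => !decB n || ((List.range 32).any fun u =>
    (List.range 32).any fun v => Nat.beq (wN u v) n)) = true := by decide +kernel

theorem wedge_dec : ((List.range 32).all fun u => (List.range 32).all fun v =>
    Nat.beq (wN u v) 0 || decB (wN u v)) = true := by decide +kernel

theorem decB_zero : decB 0 = false := by decide +kernel

theorem isDec_iff (x : V10) : IsDec x ↔ x ≠ 0 ∧ ∃ u v, wB u v = x := by
  constructor
  · intro h
    refine ⟨fun e => ?_, ?_⟩
    · subst e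
      rw [IsDec, show enc (0 : V10) = 0 by decide +kernel, decB_zero] at h
      exact absurd h (by decide)
    have hw := (List.all_eq_true.1 dec_wit) (enc x) (List.mem_range.2 (enc_lt x))
    rw [show decB (enc x) = true from h, Bool.not_true, Bool.false_or, List.any_eq_true] at hw
    obtain ⟨u, hu, hw⟩ := hw
    rw [List.any_eq_true] at hw
    obtain ⟨v, hv, hw⟩ := hw
    refine ⟨dec5 u, dec5 v, ?_⟩
    rw [← dec_enc (wB _ _), wN_eq u (List.mem_range.1 hu) v (List.mem_range.1 hv),
      Nat.eq_of_beq_eq_true hw, dec_enc]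
  · rintro ⟨hx, u, v, rfl⟩
    obtain ⟨a, ha, rfl⟩ := dec5_surj u
    obtain ⟨b, hb, rfl⟩ := dec5_surj v
    have h := (List.all_eq_true.1 ((List.all_eq_true.1 wedge_dec) a (List.mem_range.2 ha))) b
      (List.mem_range.2 hb)
    rw [Bool.or_eq_true] at h
    rcases h with h | h
    · refine absurd ?_ hx
      rw [← dec_enc (wB _ _), wN_eq a ha b hb, Nat.eq_of_beq_eq_true h]
      decide +kernel
    · rwa [IsDec, wN_eq a ha b hb]

/-- Permutations that are additive and keep the decomposable elements. -/
def decStab : Subgroup (Equiv.Perm V10) where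
  carrier := {σ | (∀ x y, σ (x + y) = σ x + σ y) ∧ ∀ x, IsDec (σ x) ↔ IsDec x}
  one_mem' := ⟨fun _ _ => rfl, fun _ => Iff.rfl⟩
  mul_mem' {a b} ha hb := ⟨fun x y => by simp [hb.1, ha.1], fun x => (ha.2 _).trans (hb.2 x)⟩
  inv_mem' {a} ha := by
    refine ⟨fun x y => a.injective ?_, fun x => ?_⟩
    · rw [ha.1]; simp
    · conv_rhs => rw [← a.apply_symm_apply x]
      exact (ha.2 _).symm

theorem mem_decStab {σ : Equiv.Perm V10} :
    σ ∈ decStab ↔ (∀ x y, σ (x + y) = σ x + σ y) ∧ ∀ x, IsDec (σ x) ↔ IsDec x := Iff.rfl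

end H74.J4A10
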