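import Cfsg.Agent.H74.J4A10.Compound

/-!
There are at most `9999360` additive permutations keeping the decomposable elements: a search for
the possible images of the basis, one vector at a time.
-/

set_option autoImplicit false

namespace H74.J4A10

open Subgroup

/-- The admissible extensions of a table of images by the image of the next basis vector. -/
def nextTabs (e : ℕ) (t : List ℕ) : List (List ℕ) :=
  ((List.range 1024).filter fun x => decB x && !(t.any fun y => Nat.beq y x) &&
    (((List.range e).zip t).all fun p =>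
      decB (Nat.xor x p.2) == decB (Nat.xor e p.1))).map fun x => t ++ t.map (Nat.xor x)

/-- The tables after some steps. -/
def growTabs : ℕ → ℕ → List (List ℕ) → List (List ℕ)
  | 0, _, L => L
  | n + 1, k, L => growTabs n (k + 1) (L.flatMap (nextTabs (2 ^ k)))

/-- The identity table. -/
def idTab (k : ℕ) : List ℕ := List.range (2 ^ k)

theorem count_one : Nat.ble (growTabs 1 0 [idTab 0]).length 155 = true := by decide +kernel

theorem count_two : Nat.ble (growTabs 3 1 [idTab 1]).length 4032 = true := by decide +kernel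

theorem count_three : Nat.ble (growTabs 6 4 [idTab 4]).length 16 = true := by decide +kernel

/-- The table of a permutation. -/
def tab (σ : Equiv.Perm V10) (k : ℕ) : List ℕ := (List.range (2 ^ k)).map fun m => enc (σ (dec m))

variable {σ : Equiv.Perm V10}

theorem decB_image (h : σ ∈ decStab) {n : ℕ} (hn : n < 1024) :
    decB (enc (σ (dec n))) = decB n := by
  rw [Bool.eq_iff_iff]
  have := h.2 (dec n)
  rw [IsDec, IsDec, enc_dec n hn] at this
  exact this

theorem image_xor (h : σ ∈ decStab) (a b : ℕ) :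
    enc (σ (dec (a ^^^ b))) = enc (σ (dec a)) ^^^ enc (σ (dec b)) := by
  rw [dec_xor, h.1, enc_add]

theorem range_double (k : ℕ) :
    List.range (2 ^ (k + 1)) = List.range (2 ^ k) ++ (List.range (2 ^ k)).map (2 ^ k + ·) := by
  rw [← List.range_add, pow_succ, mul_two]

theorem pow_add_eq_xor : ∀ k < 10, ∀ m < 2 ^ k, 2 ^ k + m = 2 ^ k ^^^ m := by decide +kernel

theorem decB_pow : ∀ k < 10, decB (2 ^ k) = true := by decide +kernel

theorem tab_step (h : σ ∈ decStab) {k : ℕ} (hk : k < 10) :
    tab σ (k + 1) ∈ nextTabs (2 ^ k) (tab σ k) := by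
  have hp : 2 ^ k < 2 ^ 10 := Nat.pow_lt_pow_right (by norm_num) hk
  have hlt : ∀ m < 2 ^ k, m < 1024 := fun m hm => lt_trans hm (by simpa using hp)
  refine List.mem_map.2 ⟨enc (σ (dec (2 ^ k))), List.mem_filter.2 ⟨List.mem_range.2 (enc_lt _), ?_⟩, ?_⟩
  · rw [Bool.and_eq_true, Bool.and_eq_true]
    refine ⟨⟨(decB_image h (by simpa using hp)).trans (decB_pow k hk), ?_⟩, ?_⟩
    · rw [Bool.not_eq_true', Bool.eq_false_iff]
      intro hany
      obtain ⟨y, hy, he⟩ := List.any_eq_true.1 hany
      obtain ⟨m, hm, rfl⟩ := List.mem_map.1 hy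
      have e : dec m = dec (2 ^ k) := σ.injective (by
        rw [← dec_enc (σ (dec m)), Nat.eq_of_beq_eq_true he, dec_enc])
      have e' := congrArg enc e
      rw [enc_dec m (hlt m (List.mem_range.1 hm)), enc_dec _ (by simpa using hp)] at e'
      exact absurd (List.mem_range.1 hm) (by omega)
    · rw [List.all_eq_true]
      rintro ⟨m, y⟩ hmy
      obtain ⟨i, hi, e⟩ := List.getElem_of_mem hmy
      rw [List.getElem_zip, Prod.mk.injEq] at e
      simp only [tab, List.getElem_range, List.getElem_map] at e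
      obtain ⟨rfl, rfl⟩ := e
      simp only [List.length_zip, List.length_range, tab, List.length_map, min_self] at hi
      show (decB (_ ^^^ _) == decB (2 ^ k ^^^ i)) = true
      rw [← image_xor h, decB_image h (Nat.xor_lt_two_pow (n := 10) hp (hlt i hi)), beq_self_eq_true]
  · simp only [tab, range_double, List.map_append, List.map_map]
    congr 1
    refine List.map_congr_left fun m hm => ?_
    show enc (σ (dec (2 ^ k))) ^^^ enc (σ (dec m)) = enc (σ (dec (2 ^ k + m)))
    rw [pow_add_eq_xor k hk m (List.mem_range.1 hm), image_xor h]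

theorem tab_mem (h : σ ∈ decStab) :
    ∀ n k L, k + n ≤ 10 → tab σ k ∈ L → tab σ (k + n) ∈ growTabs n k L
  | 0, k, L, _, hL => hL
  | n + 1, k, L, hk, hL => by
    have := tab_mem h n (k + 1) (L.flatMap (nextTabs (2 ^ k))) (by omega)
      (List.mem_flatMap.2 ⟨_, hL, tab_step h (by omega)⟩)
    rwa [show k + 1 + n = k + (n + 1) by omega] at this

/-- Fixing the first basis vectors. -/
def fixTab (k : ℕ) : Subgroup (Equiv.Perm V10) where
  carrier := {σ | σ ∈ decStab ∧ ∀ m < 2 ^ k, σ (dec m) = dec m}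
  one_mem' := ⟨decStab.one_mem, fun _ _ => rfl⟩
  mul_mem' {a b} ha hb := ⟨decStab.mul_mem ha.1 hb.1, fun m hm => by simp [hb.2 m hm, ha.2 m hm]⟩
  inv_mem' {a} ha := ⟨decStab.inv_mem ha.1, fun m hm => by
    conv_lhs => rw [← ha.2 m hm]
    simp⟩

theorem tab_id {k : ℕ} (hk : k ≤ 10) (h : σ ∈ fixTab k) : tab σ k = idTab k := by
  refine (List.map_congr_left fun m hm => ?_).trans (List.map_id _)
  have hm' := List.mem_range.1 hm
  rw [h.2 m hm', enc_dec m (lt_of_lt_of_le hm' (by simpa using Nat.pow_le_pow_right (show 0 < 2 by norm_num) hk)), id]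

theorem fixTab_step {k n N : ℕ} (hk : k + n ≤ 10)
    (hN : (growTabs n k [idTab k]).length ≤ N) :
    Nat.card (fixTab k) ≤ N * Nat.card (fixTab (k + n)) := by
  classical
  have hle : fixTab (k + n) ≤ fixTab k := fun σ h =>
    ⟨h.1, fun m hm => h.2 m (lt_of_lt_of_le hm (Nat.pow_le_pow_right (by norm_num) (by omega)))⟩
  have key : ∀ σ : fixTab k, tab σ.1 (k + n) ∈ (growTabs n k [idTab k]).toFinset := fun σ =>
    List.mem_toFinset.2 (tab_mem σ.2.1 n k _ hk (by simp [tab_id (by omega) σ.2]))
  haveI : Fintype (fixTab k) := Fintype.ofFinite _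
  rw [Nat.card_eq_fintype_card, ← Finset.card_univ, mul_comm]
  refine (Finset.card_le_mul_card_image_of_maps_to (f := fun σ : fixTab k => tab σ.1 (k + n))
    (fun σ _ => key σ) (Nat.card (fixTab (k + n))) fun t _ => ?_).trans
    (Nat.mul_le_mul_left _ ((List.toFinset_card_le _).trans hN))
  by_cases hne : (Finset.univ.filter fun σ : fixTab k => tab σ.1 (k + n) = t) = ∅
  · simp [hne]
  obtain ⟨τ, hτ⟩ := Finset.nonempty_iff_ne_empty.2 hne
  rw [Finset.mem_filter] at hτ
  haveI : Fintype (fixTab (k + n)) := Fintype.ofFinite _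
  rw [Nat.card_eq_fintype_card, ← Finset.card_univ]
  refine Finset.card_le_card_of_injOn (fun σ => if h : τ.1⁻¹ * σ.1 ∈ fixTab (k + n) then ⟨_, h⟩ else 1)
    (fun _ _ => Finset.mem_univ _) fun σ hσ σ' hσ' e => ?_
  have hin : ∀ ρ : fixTab k, tab ρ.1 (k + n) = t → τ.1⁻¹ * ρ.1 ∈ fixTab (k + n) := fun ρ hρ =>
    ⟨decStab.mul_mem (decStab.inv_mem τ.2.1) ρ.2.1, fun m hm => by
      have e := List.map_eq_map_iff.1 (hρ.trans hτ.2.symm) m (List.mem_range.2 hm)
      have e' := congrArg dec e
      rw [dec_enc, dec_enc] at e'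
      rw [Equiv.Perm.mul_apply, e']
      simp⟩
  simp only [Finset.coe_filter, Finset.mem_univ, true_and, Set.mem_setOf_eq] at hσ hσ'
  simp only [dif_pos (hin σ hσ), dif_pos (hin σ' hσ')] at e
  exact Subtype.ext (mul_left_cancel (congrArg Subtype.val e))

theorem fixTab_ten : fixTab 10 = ⊥ := by
  refine (Subgroup.eq_bot_iff_forall _).2 fun σ h => Equiv.ext fun x => ?_
  obtain ⟨n, hn, rfl⟩ := exists_dec x
  exact h.2 n (by norm_num; exact hn)

theorem fixTab_zero : fixTab 0 = decStab := by
  refine le_antisymm (fun σ (h : σ ∈ decStab ∧ _) => h.1) fun σ h => ⟨h, fun m hm => ?_⟩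
  obtain rfl : m = 0 := by simpa using hm
  have h0 : dec 0 = 0 := by decide +kernel
  rw [h0]
  have := h.1 0 0
  rwa [add_zero, left_eq_add] at this

/-- The bound. -/
theorem card_decStab_le : Nat.card decStab ≤ 9999360 := by
  have key : ∀ m k : ℕ, Nat.ble m k = true → m ≤ k := fun m k h => Nat.le_of_ble_eq_true h
  have h1 := fixTab_step (k := 0) (n := 1) (by norm_num) (key _ _ count_one)
  have h2 := fixTab_step (k := 1) (n := 3) (by norm_num) (key _ _ count_two)
  have h3 := fixTab_step (k := 4) (n := 6) (by norm_num) (key _ _ count_three)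
  rw [fixTab_zero] at h1
  rw [show (4 + 6 : ℕ) = 10 from rfl, fixTab_ten, Subgroup.card_bot] at h3
  simp only [zero_add, show (1 + 3 : ℕ) = 4 from rfl] at h1 h2
  calc Nat.card decStab ≤ 155 * Nat.card (fixTab 1) := h1
    _ ≤ 155 * (4032 * (16 * 1)) := Nat.mul_le_mul_left _ (h2.trans (Nat.mul_le_mul_left _ h3))
    _ = 9999360 := by norm_num

end H74.J4A10
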