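import Cfsg.Agent.H74.J4A10.Count
import Cfsg.Agent.H54.J4A10.Defs

/-!
A group of order `9999360` acting faithfully and linearly on the ten-bit codes of the standard
elementary subgroup, keeping the codes in the class of `z`, is `SL(5, 2)`.
-/

set_option autoImplicit false

namespace H74.J4A10

open Subgroup H54.J4A10
open Matrix (SpecialLinearGroup)

/-- Coordinates of the second exterior power of a code. -/
def toD (a : ℕ) : ℕ := (List.range 10).foldl
  (fun s j => if a.testBit j then s ^^^ [20, 38, 51, 135, 145, 165, 8, 72, 264, 832].getD j 0 else s) 0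

/-- The code of a vector. -/
def fromD (a : ℕ) : ℕ := (List.range 10).foldl
  (fun s j => if a.testBit j then s ^^^ [7, 25, 42, 64, 43, 49, 192, 60, 320, 896].getD j 0 else s) 0

theorem toD_facts : ∀ a < 1024, toD a < 1024 ∧ fromD a < 1024 ∧ fromD (toD a) = a ∧
    toD (fromD a) = a ∧ decB (toD a) = zCode a := by decide +kernel

theorem foldl_xor_bits (c : ℕ → ℕ) (a b : ℕ) : ∀ (L : List ℕ) (s t : ℕ),
    L.foldl (fun r j => if (a ^^^ b).testBit j then r ^^^ c j else r) (s ^^^ t) =
      L.foldl (fun r j => if a.testBit j then r ^^^ c j else r) s ^^^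
        L.foldl (fun r j => if b.testBit j then r ^^^ c j else r) t
  | [], s, t => rfl
  | j :: L, s, t => by
    simp only [List.foldl_cons]
    rw [← foldl_xor_bits c a b L]
    congr 1
    rw [Nat.testBit_xor]
    cases a.testBit j <;> cases b.testBit j
    · rfl
    · exact Nat.xor_assoc s t (c j)
    · exact Nat.xor_right_comm s t (c j)
    · show s ^^^ t = s ^^^ c j ^^^ (t ^^^ c j)
      rw [Nat.xor_assoc s (c j), ← Nat.xor_assoc (c j), Nat.xor_comm (c j) t, Nat.xor_assoc t,
        Nat.xor_self, Nat.xor_zero]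

theorem toD_xor (a b : ℕ) : toD (a ^^^ b) = toD a ^^^ toD b :=
  (foldl_xor_bits _ a b _ 0 0).trans rfl

/-- Codes and vectors. -/
noncomputable def codeEquiv : Fin 1024 ≃ V10 where
  toFun a := dec (toD a)
  invFun x := ⟨fromD (enc x), (toD_facts _ (enc_lt x)).2.1⟩
  left_inv a := Fin.ext (by
    show fromD (enc (dec (toD a))) = a
    rw [enc_dec _ (toD_facts a a.2).1, (toD_facts a a.2).2.2.1])
  right_inv x := by
    show dec (toD (fromD (enc x))) = x
    rw [(toD_facts _ (enc_lt x)).2.2.2.1, dec_enc]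

theorem isDec_codeEquiv (a : Fin 1024) : IsDec (codeEquiv a) ↔ zCode a = true := by
  show decB (enc (dec (toD a))) = true ↔ _
  rw [enc_dec _ (toD_facts a a.2).1, (toD_facts a a.2).2.2.2.2]

theorem codeEquiv_xor {a b c : Fin 1024} (h : c.val = a.val ^^^ b.val) :
    codeEquiv c = codeEquiv a + codeEquiv b := by
  show dec (toD c) = dec (toD a) + dec (toD b)
  rw [h, toD_xor, dec_xor]

theorem toLin'_one5 : Matrix.toLin' ((1 : SpecialLinearGroup (Fin 5) (ZMod 2)) :
    Matrix (Fin 5) (Fin 5) (ZMod 2)) = LinearMap.id := by simp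

/-- The action on the second exterior power. -/
noncomputable def wedgeHom : SpecialLinearGroup (Fin 5) (ZMod 2) →* Equiv.Perm V10 where
  toFun g :=
    { toFun := ext2 (Matrix.toLin' g.1)
      invFun := ext2 (Matrix.toLin' (g⁻¹).1)
      left_inv := fun x => by
        rw [← LinearMap.comp_apply, ← ext2_comp, ← Matrix.toLin'_mul,
          ← Matrix.SpecialLinearGroup.coe_mul, inv_mul_cancel, toLin'_one5, ext2_id]
        rfl
      right_inv := fun x => by
        rw [← LinearMap.comp_apply, ← ext2_comp, ← Matrix.toLin'_mul,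
          ← Matrix.SpecialLinearGroup.coe_mul, mul_inv_cancel, toLin'_one5, ext2_id]
        rfl }
  map_one' := Equiv.ext fun x => by
    show ext2 (Matrix.toLin' (1 : SpecialLinearGroup (Fin 5) (ZMod 2)).1) x = x
    rw [toLin'_one5, ext2_id]
    rfl
  map_mul' g h := Equiv.ext fun x => by
    show ext2 (Matrix.toLin' (g * h).1) x = ext2 (Matrix.toLin' g.1) (ext2 (Matrix.toLin' h.1) x)
    rw [Matrix.SpecialLinearGroup.coe_mul, Matrix.toLin'_mul, ext2_comp]
    rfl

theorem wedgeHom_apply (g : SpecialLinearGroup (Fin 5) (ZMod 2)) (x : V10) :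
    wedgeHom g x = ext2 (Matrix.toLin' g.1) x := rfl

theorem wedgeHom_mem (g : SpecialLinearGroup (Fin 5) (ZMod 2)) : wedgeHom g ∈ decStab := by
  have key : ∀ h : SpecialLinearGroup (Fin 5) (ZMod 2), ∀ x, IsDec x → IsDec (wedgeHom h x) := by
    intro h x hx
    obtain ⟨hx0, u, v, rfl⟩ := (isDec_iff x).1 hx
    refine (isDec_iff _).2 ⟨fun e => hx0 ?_, _, _, (ext2_wB _ u v).symm⟩
    exact (wedgeHom h).injective (e.trans (map_zero (ext2 (Matrix.toLin' h.1))).symm)
  refine mem_decStab.2 ⟨fun x y => map_add (ext2 (Matrix.toLin' g.1)) x y, fun x => ⟨fun hx => ?_, key g x⟩⟩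
  have := key g⁻¹ _ hx
  rwa [← Equiv.Perm.mul_apply, ← map_mul, inv_mul_cancel, map_one] at this

theorem wB_eq_single : ∀ i j : Fin 5, i ≠ j → ∀ k : Fin 10,
    ((pa k = i ∧ pb k = j) ∨ (pa k = j ∧ pb k = i)) → ∀ u v : Fin 32,
      wB (dec5 u) (dec5 v) = Pi.single k 1 → ∀ l : Fin 5, l ≠ i → l ≠ j → dec5 u l = 0 := by
  decide +kernel

theorem toLin_single {g : SpecialLinearGroup (Fin 5) (ZMod 2)} (hg : wedgeHom g = 1) (i l : Fin 5)
    (hl : l ≠ i) : Matrix.toLin' g.1 (Pi.single i 1) l = 0 := by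
  obtain ⟨j, hji, hjl⟩ : ∃ j, j ≠ i ∧ j ≠ l := (by decide : ∀ i l : Fin 5, ∃ j, j ≠ i ∧ j ≠ l) i l
  obtain ⟨k, hk⟩ := (pair_surj i j).resolve_left hji.symm
  have e : wB (Matrix.toLin' g.1 (Pi.single i 1)) (Matrix.toLin' g.1 (Pi.single j 1)) =
      Pi.single k 1 := by
    rw [← ext2_wB, ← wedgeHom_apply, hg, Equiv.Perm.one_apply]
    rcases hk with ⟨rfl, rfl⟩ | ⟨rfl, rfl⟩
    · exact wB_pair k
    · rw [wB_comm]; exact wB_pair k
  obtain ⟨u, hu, eu⟩ := dec5_surj (Matrix.toLin' g.1 (Pi.single i 1))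
  obtain ⟨v, hv, ev⟩ := dec5_surj (Matrix.toLin' g.1 (Pi.single j 1))
  rw [← eu]
  refine wB_eq_single i j hji.symm k hk ⟨u, hu⟩ ⟨v, hv⟩ ?_ l hl hjl.symm
  rw [← e, ← eu, ← ev]

theorem wedgeHom_injective : Function.Injective wedgeHom := by
  rw [injective_iff_map_eq_one]
  intro g hg
  apply Subtype.ext
  ext l i
  rw [Matrix.SpecialLinearGroup.coe_one]
  have hz : ∀ l, l ≠ i → g.1 l i = 0 := fun l hl => by
    have := toLin_single hg i l hl
    rwa [Matrix.toLin'_apply, Matrix.mulVec_single_one, Matrix.col_apply] at this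
  by_cases hli : l = i
  · subst hli
    rw [Matrix.one_apply_eq]
    by_contra h1
    have h0 : g.1 l l = 0 := (Fin.exists_fin_two.1 ⟨g.1 l l, rfl⟩).elim id (fun e => absurd e h1)
    have hd := Matrix.det_eq_zero_of_column_eq_zero l fun m =>
      if hm : m = l then hm ▸ h0 else hz m hm
    rw [g.2] at hd
    exact one_ne_zero hd
  · rw [Matrix.one_apply_ne hli]
    exact hz l hli

theorem zmod2_eq_one : ∀ d : ZMod 2, d ≠ 0 → d = 1 := by decide

theorem card_SL5 : Nat.card (SpecialLinearGroup (Fin 5) (ZMod 2)) = 9999360 := by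
  have h := Matrix.card_GL_field (𝔽 := ZMod 2) 5
  rw [ZMod.card] at h
  have e : Nat.card (SpecialLinearGroup (Fin 5) (ZMod 2)) = Nat.card (GL (Fin 5) (ZMod 2)) := by
    refine Nat.card_congr (Equiv.ofBijective Matrix.SpecialLinearGroup.toGL ⟨?_, ?_⟩)
    · exact Matrix.SpecialLinearGroup.toGL_injective
    · intro g
      have hd : Matrix.det (Units.val g) = 1 :=
        zmod2_eq_one _ (Matrix.det_ne_zero_of_right_inverse g.val_inv)
      exact ⟨⟨Units.val g, hd⟩, Units.ext (Matrix.SpecialLinearGroup.coe_GL_coe_matrix _)⟩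
  rw [e, h]
  simp [Fin.prod_univ_succ]

/-- The whole stabiliser. -/
theorem card_decStab : Nat.card decStab = 9999360 := by
  refine le_antisymm card_decStab_le ?_
  rw [← card_SL5]
  exact Nat.card_le_card_of_injective (fun g => (⟨wedgeHom g, wedgeHom_mem g⟩ : decStab))
    fun a b h => wedgeHom_injective (congrArg Subtype.val h)

/-- A faithful group of order `9999360` of linear maps keeping the codes in the class of `z`. -/
theorem iso_sl5_of_zCode {B : Type*} [Group B] [Finite B] (ρ : B →* Equiv.Perm (Fin 1024))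
    (hinj : Function.Injective ρ) (hcard : Nat.card B = 9999360)
    (hxor : ∀ (b : B) (a c d : Fin 1024), d.val = a.val ^^^ c.val →
      (ρ b d).val = (ρ b a).val ^^^ (ρ b c).val)
    (hz : ∀ (b : B) (a : Fin 1024), zCode (ρ b a) = zCode a) :
    Nonempty (B ≃* SpecialLinearGroup (Fin 5) (ZMod 2)) := by
  let τ : B →* Equiv.Perm V10 := codeEquiv.permCongrHom.toMonoidHom.comp ρ
  have hτa : ∀ b a, τ b (codeEquiv a) = codeEquiv (ρ b a) := fun b a => by simp [τ, Equiv.permCongrHom]
  have hτ : ∀ b, τ b ∈ decStab := fun b => mem_decStab.2 ⟨fun x y => by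
    obtain ⟨a, rfl⟩ := codeEquiv.surjective x
    obtain ⟨c, rfl⟩ := codeEquiv.surjective y
    let d : Fin 1024 := ⟨a.val ^^^ c.val, Nat.xor_lt_two_pow (n := 10) a.2 c.2⟩
    rw [← codeEquiv_xor (c := d) rfl, hτa, hτa, hτa, codeEquiv_xor (hxor b a c d rfl)],
    fun x => by
    obtain ⟨a, rfl⟩ := codeEquiv.surjective x
    rw [hτa, isDec_codeEquiv, isDec_codeEquiv, hz]⟩
  let τ' : B →* decStab := τ.codRestrict decStab hτ
  let w : SpecialLinearGroup (Fin 5) (ZMod 2) →* decStab := wedgeHom.codRestrict decStab wedgeHom_mem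
  have h1 : Function.Bijective τ' := (Nat.bijective_iff_injective_and_card τ').2
    ⟨fun a b h => hinj (codeEquiv.permCongrHom.injective (congrArg Subtype.val h)),
      by rw [hcard, card_decStab]⟩
  have h2 : Function.Bijective w := (Nat.bijective_iff_injective_and_card w).2
    ⟨fun a b h => wedgeHom_injective (congrArg Subtype.val h), by rw [card_SL5, card_decStab]⟩
  exact ⟨(MulEquiv.ofBijective τ' h1).trans (MulEquiv.ofBijective w h2).symm⟩

/-- A complement of order `9999360` in the normalizer of a subgroup in such coordinates. -/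
theorem iso_sl5_of_complement {G : Type*} [Group G] [Finite G] (z : G) (f : ℕ → G) (A B : Subgroup G)
    (hinj : ∀ a b, a < 1024 → b < 1024 → f a = f b → a = b)
    (hxor : ∀ a b, a < 1024 → b < 1024 → f (a ^^^ b) = f a * f b)
    (hA : ∀ g, g ∈ A ↔ ∃ a, a < 1024 ∧ f a = g)
    (hz : ∀ a, 0 < a → a < 1024 → (IsConj z (f a) ↔ zCode a = true))
    (hB : B ≤ normalizer (A : Set G)) (hfaith : B ⊓ centralizer (A : Set G) = ⊥)
    (hcard : Nat.card B = 9999360) :
    Nonempty (B ≃* SpecialLinearGroup (Fin 5) (ZMod 2)) := by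
  classical
  let F : Fin 1024 → A := fun a => ⟨f a, (hA _).2 ⟨a, a.2, rfl⟩⟩
  have hF : Function.Bijective F :=
    ⟨fun a b h => Fin.ext (hinj a b a.2 b.2 (congrArg Subtype.val h)),
      fun g => by obtain ⟨a, ha, e⟩ := (hA g).1 g.2; exact ⟨⟨a, ha⟩, Subtype.ext e⟩⟩
  let conjB : B →* MulAut A := A.normalizerMonoidHom.comp (Subgroup.inclusion hB)
  let ρ : B →* Equiv.Perm (Fin 1024) :=
    ((Equiv.ofBijective F hF).symm.permCongrHom.toMonoidHom.comp (MulAut.toPerm A)).comp conjB
  have hρ : ∀ (b : B) a, f (ρ b a).val = (b : G) * f a * (b : G)⁻¹ := fun b a => by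
    have : F (ρ b a) = conjB b (F a) := by
      simp [ρ, Equiv.permCongrHom, Equiv.ofBijective_apply_symm_apply F hF]
      rfl
    exact congrArg Subtype.val this
  have hf0 : f 0 = 1 := by
    have := hxor 0 0 (by norm_num) (by norm_num)
    simp only [Nat.xor_self] at this
    exact (mul_eq_left.1 this.symm)
  refine iso_sl5_of_zCode ρ (fun b b' e => ?_) hcard (fun b a c d hd => ?_) fun b a => ?_
  · have hm : (b'⁻¹ * b : B) = 1 := by
      refine Subtype.ext ((Subgroup.eq_bot_iff_forall _).1 hfaith _ ⟨(b'⁻¹ * b).2,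
        Subgroup.mem_centralizer_iff.2 fun g hg => ?_⟩)
      obtain ⟨a, ha, rfl⟩ := (hA g).1 hg
      have h1 := hρ b ⟨a, ha⟩
      rw [e, hρ b' ⟨a, ha⟩] at h1
      push_cast
      calc f a * ((b' : G)⁻¹ * (b : G)) = (b' : G)⁻¹ * ((b' : G) * f a * (b' : G)⁻¹) * b := by group
        _ = (b' : G)⁻¹ * ((b : G) * f a * (b : G)⁻¹) * b := by rw [h1]
        _ = (b' : G)⁻¹ * (b : G) * f a := by group
    rwa [inv_mul_eq_one, eq_comm] at hm
  · refine hinj _ _ (ρ b d).2 (Nat.xor_lt_two_pow (n := 10) (ρ b a).2 (ρ b c).2) ?_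
    rw [hxor _ _ (ρ b a).2 (ρ b c).2, hρ, hρ, hρ, hd, hxor _ _ a.2 c.2]
    group
  · by_cases ha : a.val = 0
    · have : (ρ b a).val = 0 := hinj _ _ (ρ b a).2 (by norm_num) (by rw [hρ, ha, hf0]; group)
      rw [this, ha]
    · have hpos : 0 < (ρ b a).val := Nat.pos_of_ne_zero fun e => ha (hinj _ _ a.2 (by norm_num) (by
        have h := hρ b a
        rw [e, hf0] at h
        rw [hf0]
        exact conj_eq_one_iff.1 h.symm))
      rw [Bool.eq_iff_iff, ← hz _ hpos (ρ b a).2, ← hz _ (Nat.pos_of_ne_zero ha) a.2, hρ]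
      exact ⟨fun h => h.trans (isConj_iff.2 ⟨(b : G), rfl⟩).symm,
        fun h => h.trans (isConj_iff.2 ⟨(b : G), rfl⟩)⟩

end H74.J4A10
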